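import Cfsg.Agent.Lib.Nagai.CaseA
import Cfsg.Agent.Lib.Nagai.Rank3
import Cfsg.Agent.Lib.FT.GW.Eight

/-!
Simple groups of degree `3 p` with a Sylow `p`-normalizer of order `2 p`: the Sylow 2-subgroup in
the case without a strongly embedded subgroup.
-/

set_option autoImplicit false

namespace Cfsg.Lib.Nagai

open Subgroup MulAction Cfsg.Lib.FT Cfsg.Lib.BSW Cfsg.Lib.Bender
open scoped Pointwise

variable {G : Type*} [Group G] {Ω : Type*} [MulAction G Ω]

/-- the configuration -/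
structure Cfg (S : Sylow 2 G) (z w : G) (α β : Ω) : Prop where
  fix : ∀ t : G, orderOf t = 2 → (fixedBy Ω t).ncard = 3
  hz : orderOf z = 2
  zS : z ∈ (S : Subgroup G)
  cen : (S : Subgroup G) ≤ C1[z]
  hw : orderOf w = 2
  wS : w ∈ (S : Subgroup G)
  le : (S : Subgroup G) ≤ stabilizer G α
  zβ : z • β = β
  ne : w • β ≠ β

theorem exists_invol_pow [Finite G] {S : Subgroup G} (hS : IsPGroup 2 S) {y : G} (hy : y ∈ S)
    (h1 : y ≠ 1) : ∃ v ∈ zpowers y, orderOf v = 2 := by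
  obtain ⟨k, hk⟩ := IsPGroup.iff_orderOf.mp hS ⟨y, hy⟩
  rw [orderOf_mk] at hk
  refine sm_exists_mem_orderOf_eq Nat.prime_two _ ?_
  rw [Nat.card_zpowers, hk]
  refine dvd_pow_self 2 ?_
  rintro rfl
  exact h1 (orderOf_eq_one_iff.1 hk)

theorem fix_of_mem_zpowers {y v : G} (h : v ∈ zpowers y) {ω : Ω} (hy : y • ω = ω) : v • ω = ω :=
  (zpowers_le.2 (show y ∈ stabilizer G ω from hy)) h

theorem eq_of_ncard_three {s : Set Ω} (h : s.ncard = 3) {a b c d : Ω} (ha : a ∈ s) (hb : b ∈ s)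
    (hc : c ∈ s) (hd : d ∈ s) (h1 : b ≠ a) (h2 : c ≠ a) (h3 : c ≠ b) : d = a ∨ d = b ∨ d = c := by
  have h4 : {a, b, c} = s := Set.eq_of_subset_of_ncard_le
    (Set.insert_subset ha (Set.insert_subset hb (Set.singleton_subset_iff.2 hc)))
    (by rw [h, Set.ncard_eq_three.2 ⟨a, b, c, h1.symm, h2.symm, h3.symm, rfl⟩])
    (Set.finite_of_ncard_ne_zero (by omega))
  rw [← h4] at hd
  simpa using hd

namespace Cfg

variable {S : Sylow 2 G} {z w : G} {α β : Ω} (c : Cfg S z w α β)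
include c

theorem βα : β ≠ α := fun e => c.ne (e ▸ c.le c.wS)

theorem fix_smul {y : G} (hy : y ∈ (S : Subgroup G)) {ω : Ω} (h : z • ω = ω) : z • y • ω = y • ω :=
  fix_smul_of_comm h (mem_centralizer_singleton_iff.1 (c.cen hy))

theorem smul_ne {y : G} (hy : y ∈ (S : Subgroup G)) {ω : Ω} (h : ω ≠ α) : y • ω ≠ α := fun e =>
  h (smul_left_cancel y (e.trans (c.le hy).symm))

theorem fix_z {ω : Ω} (h : z • ω = ω) : ω = α ∨ ω = β ∨ ω = w • β :=
  eq_of_ncard_three (c.fix z c.hz) (c.le c.zS) c.zβ (c.fix_smul c.wS c.zβ) h c.βα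
    (c.smul_ne c.wS c.βα) c.ne

theorem out {y : G} (hy : y ∈ (S : Subgroup G)) (h : y • β ≠ β) : y • β = w • β :=
  ((c.fix_z (c.fix_smul hy c.zβ)).resolve_left (c.smul_ne hy c.βα)).resolve_left h

theorem inn {y : G} (hy : y ∈ (S : Subgroup G)) (h : y • β = β) : y • w • β = w • β :=
  ((c.fix_z (c.fix_smul hy (c.fix_smul c.wS c.zβ))).resolve_left
    (c.smul_ne hy (c.smul_ne c.wS c.βα))).resolve_left fun e =>
      c.ne (smul_left_cancel y (e.trans h.symm))

theorem out' {y : G} (hy : y ∈ (S : Subgroup G)) (h : y • β ≠ β) : y • w • β = β :=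
  (((c.fix_z (c.fix_smul hy (c.fix_smul c.wS c.zβ))).resolve_left
    (c.smul_ne hy (c.smul_ne c.wS c.βα))).resolve_right fun e =>
      c.ne (smul_left_cancel y (e.trans (c.out hy h).symm)))

theorem out_mul {y y' : G} (hy : y ∈ (S : Subgroup G)) (hy' : y' ∈ (S : Subgroup G)) (h : y • β ≠ β)
    (h' : y' • β ≠ β) : (y * y') • β = β := by rw [mul_smul, c.out hy' h', c.out' hy h]

theorem sub {y : G} (hy : y ∈ (S : Subgroup G)) (h : y • β = β) : fixedBy Ω z ⊆ fixedBy Ω y :=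
  fun ω hω => by
    rcases c.fix_z hω with rfl | rfl | rfl
    exacts [c.le hy, h, c.inn hy h]

theorem fix_inn [Finite G] {y : G} (hy : y ∈ (S : Subgroup G)) (h : y • β = β) (h1 : y ≠ 1) :
    fixedBy Ω y = fixedBy Ω z := by
  obtain ⟨v, h2, h3⟩ := exists_invol_pow S.isPGroup' hy h1
  have h4 : fixedBy Ω z = fixedBy Ω v := Set.eq_of_subset_of_ncard_le
    (c.sub (zpowers_le.2 hy h2) (fix_of_mem_zpowers h2 h)) (by rw [c.fix v h3, c.fix z c.hz])
    (Set.finite_of_ncard_ne_zero (by rw [c.fix v h3]; omega))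
  exact subset_antisymm (fun ω hω => h4 ▸ fix_of_mem_zpowers h2 hω) (c.sub hy h)

theorem eq_of_out {y : G} (hy : y ∈ (S : Subgroup G)) (h : y • β ≠ β) {ω : Ω} (h1 : y • ω = ω)
    (h2 : z • ω = ω) : ω = α := by
  rcases c.fix_z h2 with e | rfl | rfl
  · exact e
  · exact absurd h1 h
  · exact absurd (h1.symm.trans (c.out' hy h)) c.ne

theorem fix_out [Finite G] {y : G} (hy : y ∈ (S : Subgroup G)) (h : y • β ≠ β) (h1 : y * y ≠ 1) :
    fixedBy Ω y = {α} := Set.eq_singleton_iff_unique_mem.2 ⟨c.le hy, fun ω hω =>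
  c.eq_of_out hy h hω ((c.fix_inn (mul_mem hy hy) (c.out_mul hy hy h h) h1).le
    (show (y * y) • ω = ω by rw [mul_smul, hω, hω]))⟩

theorem eq_of_comm [Finite G] {y : G} (hy : y ∈ (S : Subgroup G)) (h : y • β = β) (h1 : y ≠ 1)
    (h2 : y * w = w * y) : y = z := by
  obtain ⟨δ, h3, h4⟩ := Set.exists_ne_of_one_lt_ncard (by rw [c.fix w c.hw]; omega :
    1 < (fixedBy Ω w).ncard) α
  have h5 : z • δ ≠ δ := fun e => h4 (c.eq_of_out c.wS c.ne h3 e)
  have h6 : ∀ u ∈ (S : Subgroup G), u • β = β → u • δ = δ → u = 1 := fun u hu e e' => by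
    by_contra h7
    exact h5 ((c.fix_inn hu e h7).le e')
  rcases eq_of_ncard_three (c.fix w c.hw) (c.le c.wS) h3
    (fix_smul_of_comm h3 (mem_centralizer_singleton_iff.1 (c.cen c.wS)).symm)
    (fix_smul_of_comm h3 h2) h4 (c.smul_ne c.zS h4) h5 with e | e | e
  · exact absurd e (c.smul_ne hy h4)
  · exact absurd (h6 y hy h e) h1
  · have := h6 (z⁻¹ * y) (mul_mem (inv_mem c.zS) hy)
      (by rw [mul_smul, h, inv_smul_eq_iff, c.zβ]) (by rw [mul_smul, e, inv_smul_smul])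
    exact (inv_mul_eq_one.1 this).symm

theorem dih2_of_out [Finite G] (h : ∀ y ∈ (S : Subgroup G), y • β ≠ β → y * y = 1) : GW.Dih2 G := by
  have h1 : ∀ y ∈ (S : Subgroup G) ⊓ stabilizer G β, w * y * w⁻¹ = y⁻¹ := fun y hy => by
    rw [inv_eq_of_orderOf_two c.hw, eq_inv_iff_mul_eq_one, mul_assoc _ w]
    exact h _ (mul_mem c.wS hy.1) (by rw [mul_smul, hy.2]; exact c.ne)
  have h2 : ∀ y : ↥((S : Subgroup G) ⊓ stabilizer G β), orderOf y = 2 → (y : G) = z := fun y hy => by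
    rw [← orderOf_coe] at hy
    refine c.eq_of_comm y.2.1 y.2.2 (ne_one_of_orderOf_two hy) ?_
    rw [eq_comm, ← mul_inv_eq_iff_eq_mul, h1 y y.2, inv_eq_of_orderOf_two hy]
  have h3 : IsCyclic ↥((S : Subgroup G) ⊓ stabilizer G β) := by
    rcases pg_two_group_unique_involution (S.isPGroup'.to_le (inf_le_left (b := stabilizer G β)))
      (fun a b ha hb => Subtype.ext ((h2 a ha).trans (h2 b hb).symm)) with
      e | ⟨m, a, b, hm, -, h4, -, -, -, h5⟩
    · exact e
    have h6 : b * a = a * b := Subtype.ext (comm_of_forall_inverts h1 b.2 a.2)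
    rw [h6, mul_inv_cancel_right, eq_inv_iff_mul_eq_one, ← sq, ← orderOf_dvd_iff_pow_eq_one, h4] at h5
    have := (Nat.pow_dvd_pow_iff_le_right one_lt_two).1 (h5.trans (pow_one 2).symm.dvd)
    omega
  obtain ⟨g, hg⟩ := (Subgroup.isCyclic_iff_exists_zpowers_eq_top _).1 h3
  refine GW.dih2_of_gen (IsSylowIn.of_sylow_top S) (c := g) ⟨(hg.le (mem_zpowers g)).1, ?_, ?_⟩
  · rw [hg]
    exact fun y hy h4 => h y hy fun e => h4 ⟨hy, e⟩
  · rw [hg]
    exact fun y hy y' hy' h4 h5 =>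
      ⟨mul_mem hy hy', c.out_mul hy hy' (fun e => h4 ⟨hy, e⟩) fun e => h5 ⟨hy', e⟩⟩

theorem dih2_of_inn [Finite G] (h : ∀ y ∈ (S : Subgroup G), y • β = β → y ≠ 1 → y = z) :
    GW.Dih2 G := c.dih2_of_out fun y hy h1 => by
  have h2 := mul_self_of_orderOf_two c.hw
  by_cases h3 : y * w = 1
  · rw [eq_inv_of_mul_eq_one_left h3, ← mul_inv_rev, h2, inv_one]
  · rw [eq_mul_inv_of_mul_eq (h _ (mul_mem hy c.wS) (c.out_mul hy c.wS h1 c.ne) h3),
      inv_eq_of_orderOf_two c.hw, mul_assoc, ← mul_assoc w,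
      mem_centralizer_singleton_iff.1 (c.cen c.wS), mul_assoc, h2, mul_one,
      mul_self_of_orderOf_two c.hz]

theorem card_S : Nat.card (S : Subgroup G) =
    2 * Nat.card ↥((S : Subgroup G) ⊓ stabilizer G β) := by
  rw [← relIndex_mul_card (inf_le_left (a := (S : Subgroup G)) (b := stabilizer G β)),
    inf_relIndex_left, ← ncard_smul_eq_relIndex]
  refine congrArg (· * _) (Eq.trans (congrArg _ (subset_antisymm ?_ ?_)) (Set.ncard_pair c.ne))
  · rintro _ ⟨y, hy, rfl⟩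
    by_cases e : y • β = β
    · exact Or.inr e
    · exact Or.inl (c.out hy e)
  · rintro _ (rfl | rfl)
    · exact ⟨w, c.wS, rfl⟩
    · exact ⟨1, one_mem _, one_smul _ _⟩

theorem dih2_of_dvd [Finite G] [IsSimpleGroup G] (hG : ¬ IsMulCommutative G)
    (h : Nat.card (S : Subgroup G) ∣ 8) : GW.Dih2 G := by
  by_cases h8 : Nat.card (S : Subgroup G) = 8
  · refine (GW.dih2_or_comm (Suz.oddCore_eq_bot_of_simple (even_iff_two_dvd.2
      (c.hz ▸ orderOf_dvd_natCard z))) (fun e => hG ⟨⟨IsSimpleGroup.comm_iff_isSolvable.2 e⟩⟩)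
      (by
        rw [(IsSimpleGroup.eq_bot_or_eq_top_of_normal (center G) inferInstance).resolve_right fun e =>
          hG ⟨⟨fun a b => mem_center_iff.1 (e ▸ mem_top b) a⟩⟩, card_bot]
        norm_num) S h8).elim id fun hc => c.dih2_of_inn fun y hy h1 h2 => c.eq_of_comm hy h1 h2 ?_
    exact congrArg Subtype.val (hc.is_comm.comm ⟨y, hy⟩ ⟨w, c.wS⟩)
  · refine c.dih2_of_inn fun y hy h1 h2 => ?_
    by_contra h3
    have h4 : 2 < Nat.card ↥((S : Subgroup G) ⊓ stabilizer G β) := by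
      have := Fintype.ofFinite ↥((S : Subgroup G) ⊓ stabilizer G β)
      rw [Nat.card_eq_fintype_card, Fintype.two_lt_card_iff]
      exact ⟨⟨y, hy, h1⟩, ⟨z, c.zS, c.zβ⟩, 1, fun e => h3 (congrArg Subtype.val e),
        fun e => h2 (congrArg Subtype.val e),
        fun e => ne_one_of_orderOf_two c.hz (congrArg Subtype.val e)⟩
    have h5 := c.card_S
    have h6 := Nat.le_of_dvd (by norm_num) h
    have h7 : Nat.card (S : Subgroup G) = 6 := by omega
    rw [h7] at h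
    omega

theorem dih2_of_dvd' [Fintype G] [Fintype Ω] (h : Nat.card (S : Subgroup G) ∣ Fintype.card Ω - 3) :
    GW.Dih2 G := by
  classical
  refine c.dih2_of_out fun y hy h1 => ?_
  let A : Finset (S : Subgroup G) := Finset.univ.filter fun y => (y : G) • β ≠ β ∧ (y : G) * y ≠ 1
  obtain ⟨r, hr⟩ := OC.exists_avg_nat (pch_char (G := G) Ω) (S : Subgroup G)
  rw [OC.avg_eq, inv_mul_eq_iff_eq_mul₀ (natCard_complex_ne_zero _)] at hr
  simp only [pch_nf] at hr
  have h2 : ∑ a : (S : Subgroup G), nf Ω (a : G) = Nat.card (S : Subgroup G) * r := by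
    exact_mod_cast hr
  have h3 : 3 ≤ Fintype.card Ω := by
    rw [← c.fix z c.hz, ← Nat.card_eq_fintype_card, ← Set.ncard_univ]
    exact Set.ncard_le_ncard (Set.subset_univ _)
  have h4 : ∑ a : (S : Subgroup G), (nf Ω (a : G) + if a ∈ A then 2 else 0) =
      ∑ a : (S : Subgroup G), (3 + if a = 1 then Fintype.card Ω - 3 else 0) :=
    Finset.sum_congr rfl fun a _ => by
      by_cases e : a = 1
      · subst e
        simp [A, nf]
        omega
      have e' : (a : G) ≠ 1 := fun e' => e (Subtype.ext e')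
      rw [if_neg e, nf_eq]
      by_cases e1 : (a : G) • β = β
      · rw [c.fix_inn a.2 e1 e', c.fix z c.hz, if_neg (by simp [A, e1])]
      by_cases e2 : (a : G) * a = 1
      · rw [c.fix a (h9_orderOf_eq_two_iff.2 ⟨e', e2⟩), if_neg (by simp [A, e2])]
      · rw [c.fix_out a.2 e1 e2, Set.ncard_singleton, if_pos (by simp [A, e1, e2])]
  simp only [Finset.sum_add_distrib, h2, Finset.sum_ite_mem, Finset.univ_inter, Finset.sum_const,
    smul_eq_mul, Finset.sum_ite_eq', Finset.mem_univ, if_true, Finset.card_univ,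
    ← Nat.card_eq_fintype_card (α := (S : Subgroup G))] at h4
  have h5 : Nat.card (S : Subgroup G) ∣ A.card * 2 :=
    (Nat.dvd_add_right (dvd_mul_right _ r)).1 (h4 ▸ (dvd_mul_right _ 3).add h)
  have h6 : A.card * 2 < Nat.card (S : Subgroup G) := by
    have h7 : Disjoint A (A.image (· * ⟨w, c.wS⟩)) := Finset.disjoint_left.2 fun a ha hb => by
      obtain ⟨b, hb', rfl⟩ := Finset.mem_image.1 hb
      simp only [A, Finset.mem_filter] at ha hb'
      exact ha.2.1 (c.out_mul b.2 c.wS hb'.2.1 c.ne)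
    have h8 := Finset.card_lt_univ_of_notMem (x := (1 : (S : Subgroup G)))
      (s := A ∪ A.image (· * ⟨w, c.wS⟩)) (fun e => by
        rcases Finset.mem_union.1 e with e | e
        · simp [A] at e
        · obtain ⟨b, hb, e⟩ := Finset.mem_image.1 e
          simp only [A, Finset.mem_filter] at hb
          refine hb.2.2 ?_
          rw [eq_inv_of_mul_eq_one_left (congrArg Subtype.val e : (b : G) * w = 1), ← mul_inv_rev,
            mul_self_of_orderOf_two c.hw, inv_one])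
    rw [Finset.card_union_of_disjoint h7, Finset.card_image_of_injective _ (mul_left_injective _),
      ← Nat.card_eq_fintype_card] at h8
    omega
  have h7 : A = ∅ := Finset.card_eq_zero.1 (by have := Nat.eq_zero_of_dvd_of_lt h5 h6; omega)
  by_contra h8
  exact Finset.notMem_empty _ (h7 ▸ Finset.mem_filter.2 ⟨Finset.mem_univ _, h1, h8⟩ :
    (⟨y, hy⟩ : (S : Subgroup G)) ∈ ∅)

theorem card_dvd [Finite G] :
    Nat.card ↥((S : Subgroup G) ⊓ stabilizer G β) ∣ (fixedBy Ω z)ᶜ.ncard := by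
  refine Steiner.card_dvd_ncard_of_free _ _ (fun y hy ω hω e => hω ?_) fun y hy ω hω e => ?_
  · simpa using c.fix_smul (inv_mem hy.1) e
  · by_contra h1
    exact hω ((c.fix_inn hy.1 hy.2 h1).le e)

theorem card_dvd' [Finite G] (hc : GW.OneClass G) : Nat.card (S : Subgroup G) ∣
    {ω | ω ≠ α ∧ ¬ ∃ g : G, g • α = α ∧ g • β = ω}.ncard := by
  refine Steiner.card_dvd_ncard_of_free _ _ (fun y hy ω hω => ⟨c.smul_ne hy hω.1,
    fun ⟨g, h1, h2⟩ => hω.2 ⟨y⁻¹ * g, by rw [mul_smul, h1]; exact c.le (inv_mem hy),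
      by rw [mul_smul, h2, inv_smul_smul]⟩⟩) fun y hy ω hω e => ?_
  by_contra h1
  obtain ⟨v, h2, h3⟩ := exists_invol_pow S.isPGroup' hy h1
  have h4 := zpowers_le.2 hy h2
  have h5 := fix_of_mem_zpowers h2 e
  obtain ⟨g, h6, h7⟩ : ∃ g : G, g • α = α ∧ z • g • ω = g • ω := by
    by_cases e1 : v • β = β
    · exact ⟨1, one_smul _ _, by
        rw [one_smul]; exact (c.fix_inn h4 e1 (ne_one_of_orderOf_two h3)).le h5⟩
    obtain ⟨g, hg⟩ := hc.exists_conj h3 c.hz
    have h6 : g * z * g⁻¹ ∈ C1[z] := by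
      rw [mem_centralizer_singleton_iff]
      nth_rewrite 2 3 [← hg]
      rw [conj_mul, conj_mul, mem_centralizer_singleton_iff.1 (c.cen h4)]
    obtain ⟨k, hk, h7⟩ := (IsSylowIn.of_sylow_le S c.cen).exists_conj_le
      (GW.isPGroup_zpowers_two (t := g * z * g⁻¹)
        (by rw [conj_mul, mul_self_of_orderOf_two c.hz]; simp)) (zpowers_le.2 h6)
    have h8 : (k * (g * z * g⁻¹) * k⁻¹) • α = α := c.le (h7 ⟨_, mem_zpowers _, rfl⟩)
    have h9 : k * g * v * (k * g)⁻¹ = z := by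
      rw [mul_inv_rev, ← mul_assoc, mul_assoc k, mul_assoc k, hg,
        mem_centralizer_singleton_iff.1 hk, mul_inv_cancel_right]
    have h10 : (k * g)⁻¹ • α = α := c.eq_of_out h4 e1 (by
      rw [eq_inv_smul_iff, ← mul_smul, ← mul_smul, h9]; exact c.le c.zS) (by
      rw [eq_inv_smul_iff, ← mul_smul, ← mul_smul,
        show k * g * z * (k * g)⁻¹ = k * (g * z * g⁻¹) * k⁻¹ by group, h8])
    refine ⟨k * g, inv_smul_eq_iff.1 h10 |>.symm, ?_⟩
    rw [← h9, conj_smul, h5]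
  refine hω.2 ?_
  rcases c.fix_z h7 with e1 | e1 | e1
  · exact absurd (smul_left_cancel g (e1.trans h6.symm)) hω.1
  · exact ⟨g⁻¹, inv_smul_eq_iff.2 h6.symm, inv_smul_eq_iff.2 e1.symm⟩
  · exact ⟨g⁻¹ * w, by rw [mul_smul, c.le c.wS, inv_smul_eq_iff, h6],
      by rw [mul_smul, inv_smul_eq_iff, e1]⟩

end Cfg

end Cfsg.Lib.Nagai
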