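import Cfsg.Agent.Lib.Nagai.CaseB
import Cfsg.Agent.Lib.Big.GW
import Cfsg.Agent.Lib.BSW.D8

/-!
Simple groups of degree `3 p` with a Sylow `p`-normalizer of order `2 p`.
-/

set_option autoImplicit false

namespace Cfsg.Lib.Nagai

open Subgroup MulAction Cfsg.Lib.FT Cfsg.Lib.BSW Cfsg.Lib.Bender
open scoped Pointwise LinearAlgebra.Projectivization

variable {G : Type*} [Group G]

theorem exists_steinberg [Fintype G] {F : Type*} [Field F] [Fintype F]
    (e : G ≃* Matrix.ProjectiveSpecialLinearGroup (Fin 2) F) :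
    ∃ ζ : IrrCharacter G, irrDeg ζ = Fintype.card F := by
  classical
  have := Fintype.ofFinite (ℙ F (Fin 2 → F))
  let _ : MulAction G (ℙ F (Fin 2 → F)) := MulAction.compHom _ e.toMonoidHom
  have h1 : Fintype.card (ℙ F (Fin 2 → F)) = Fintype.card F + 1 := by
    rw [← Nat.card_eq_fintype_card, Projectivization.card_of_finrank_two F _ (by simp),
      Nat.card_eq_fintype_card]
  obtain ⟨a, b, hab⟩ := Fintype.one_lt_card_iff.1
    (by rw [h1]; exact Nat.succ_lt_succ Fintype.card_pos : 1 < Fintype.card (ℙ F (Fin 2 → F)))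
  have h2 := (irr_pch_sub_one (G := G) hab fun x y x' y' h h' => by
    obtain ⟨g, h3, h4⟩ := is_two_pretransitive_iff.1 (inferInstance :
      IsMultiplyPretransitive (Matrix.SpecialLinearGroup (Fin 2) F) (ℙ F (Fin 2 → F)) 2) h h'
    have h5 : ∀ z : ℙ F (Fin 2 → F), e.symm g • z = g • z := fun z => by
      change e (e.symm g) • z = _
      rw [e.apply_symm_apply]; rfl
    exact ⟨e.symm g, (h5 x).trans h3, (h5 y).trans h4⟩).1
  refine ⟨⟨_, h2⟩, ?_⟩
  have h3 := coe_irrDeg ⟨_, h2⟩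
  simp only [Pi.sub_apply, pch_one, h1] at h3
  exact_mod_cast (by simpa using h3.symm : (irrDeg ⟨_, h2⟩ : ℂ) = Fintype.card F)

theorem numB {s u v p n : ℕ} {a : ℤ} (hs : 0 < s) (h : ((s * u : ℕ) : ℤ) * (n - a) ^ 2 =
    (s * v : ℕ) ^ 2 * p * n * (n - 1)) : (u : ℤ) * (n - a) ^ 2 = s * (v ^ 2 * p * n * (n - 1)) :=
  mul_left_cancel₀ (by positivity : (s : ℤ) ≠ 0) (by push_cast at h; linear_combination h)

theorem eq_nine {q r k : ℕ} {ρ : ℤ} (hr : r.Prime) (hq : q = r ^ k) (h3 : 3 < q)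
    (h : (q : ℤ) = 3 * ρ * (2 * ρ + 1)) : q = 9 := by
  have h1 : 3 ∣ r ^ k := by
    rw [← hq, ← Int.natCast_dvd_natCast, h, mul_assoc]; exact dvd_mul_right _ _
  obtain rfl := (Nat.prime_dvd_prime_iff_eq Nat.prime_three hr).1 (Nat.prime_three.dvd_of_dvd_pow h1)
  have key : ∀ d : ℤ, d ∣ q → ¬ 3 ∣ d → d = 1 ∨ d = -1 := fun d h4 h5 => by
    obtain ⟨j, -, hj⟩ := (Nat.dvd_prime_pow Nat.prime_three).1
      (hq ▸ Int.natAbs_dvd_natAbs.2 h4 : d.natAbs ∣ 3 ^ k)
    rcases j with _ | j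
    · omega
    · omega
  by_cases h4 : 3 ∣ ρ
  · rcases key (2 * ρ + 1) (h ▸ dvd_mul_left _ _) (by omega) with e | e
    · rw [show ρ = 0 by omega] at h; omega
    · omega
  · rcases key ρ (h ▸ (dvd_mul_left _ _).mul_right _) h4 with rfl | rfl <;> omega

variable {p : ℕ} [hp : Fact p.Prime] {x : G} {Ω : Type*} [Fintype Ω] [MulAction G Ω] [Fintype G]
  {n f : ℕ} {a : ℤ}

theorem Hyp.caseB [IsSimpleGroup G] (h : Hyp Ω p x) (D : Data Ω p x n a 3) {S : Sylow 2 G} {z w : G}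
    {α β : Ω} (c : Cfg S z w α β) :
    IsPreprimitive G Ω ∧ p = 5 ∧ Nonempty (G ≃* alternatingGroup (Fin 6)) := by
  have hp3 := h.p3
  have hpo := hp.out.eq_two_or_odd
  have hu := (S : Subgroup G).card_mul_index
  have hu' := S.not_dvd_index
  have hv := relIndex_mul_card c.cen
  have hv' := (IsSylowIn.of_sylow_le S c.cen).not_dvd_relIndex
  have hF := D.form z c.hz
  have hF' := hF
  rw [← hu, ← hv, mul_comm (relIndex _ _)] at hF'
  replace hF' := numB Nat.card_pos hF'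
  obtain ⟨e, he⟩ := S.isPGroup'.exists_card_eq
  have hco : ∀ u : ℕ, ¬ 2 ∣ u → IsCoprime (Nat.card (S : Subgroup G) : ℤ) u := fun u hu => by
    rw [Nat.isCoprime_iff_coprime, he]
    exact (Nat.prime_two.coprime_iff_not_dvd.2 hu).pow_left e
  generalize (S : Subgroup G).index = u at *
  generalize (S : Subgroup G).relIndex C1[z] = v at *
  have key : GW.Dih2 G ∧ (n + 1 = 2 * p → ∃ ρ : ℤ, 2 * p = 6 * ρ ^ 2 + 3 * ρ + 1) := by
    rcases D.cases with ⟨h1, rfl⟩ | ⟨h1, h2⟩ | ⟨h1, rfl, χ, ψ, h2, h3, h4, h5, h6, h7, h8, h9, h10⟩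
    · refine ⟨c.dih2_of_dvd' ?_, by omega⟩
      rw [h.card, show 3 * p - 3 = 3 * n by omega, ← Int.natCast_dvd_natCast]
      push_cast
      refine Dvd.dvd.mul_left ((hco u hu').dvd_of_dvd_mul_left ⟨v ^ 2 * p * (n - 1), ?_⟩) 3
      apply mul_left_cancel₀ (by omega : (n : ℤ) ≠ 0)
      linear_combination hF'
    · refine ⟨c.dih2_of_dvd h.nc ?_, by omega⟩
      have h3 := c.card_dvd
      rw [Set.ncard_compl, c.fix z c.hz, Nat.card_eq_fintype_card (α := Ω), h.card] at h3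
      obtain ⟨k, hk⟩ := h3
      have h4 := D.four
      have h5 := c.card_S
      generalize Nat.card ↥((S : Subgroup G) ⊓ stabilizer G β) = s at *
      obtain ⟨m, hm⟩ : ∃ m, n = 2 * m := ⟨n / 2, by omega⟩
      have h6 : (n : ℤ) - a = s * k := by omega
      have h7 : ¬ 2 ∣ v ^ 2 * p * m * (n - 1) := by
        simp only [sq, Nat.prime_two.dvd_mul]
        omega
      rw [← Int.natCast_dvd_natCast]
      refine (hco _ h7).dvd_of_dvd_mul_right ⟨u * k ^ 2, ?_⟩
      have hs : (s : ℤ) ≠ 0 := by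
        have : 0 < Nat.card (S : Subgroup G) := Nat.card_pos
        omega
      apply mul_left_cancel₀ hs
      rw [h6, h5] at hF'
      rw [h5, Nat.cast_mul _ (n - 1), Nat.cast_sub (by omega)]
      rw [hm] at hF' ⊢
      push_cast at hF' ⊢
      linear_combination (-2) * hF'
    · obtain ⟨ρ, h11, h12⟩ := h.rank_three h2 h3 h4 h5
        (by rw [h6]; exact_mod_cast (by omega : (n : ℤ) = 2 * p - 1)) h7 h8 h9 c.hz (h10 z c.hz)
        (D.fix z c.hz) c.βα
      refine ⟨c.dih2_of_dvd h.nc ?_, fun _ => ⟨ρ, h11⟩⟩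
      refine Int.natCast_dvd_natCast.1 (h12 _ (Int.natCast_dvd_natCast.2 (c.card_dvd' D.one)) ?_)
      rw [show (2 * p - 2 : ℤ) = n - 1 by omega]
      refine (hco u hu').dvd_of_dvd_mul_left ⟨v ^ 2 * p * n, ?_⟩
      apply mul_left_cancel₀ (by omega : (n - 1 : ℤ) ≠ 0)
      linear_combination hF'
  have hS := h.card_sylow
  have hS' := card_sylow_modEq_one p G
  have hcs := D.cases
  rcases GW.gorenstein_walter G h.nc key.1 with ⟨F, _, _, h1, h2, ⟨φ⟩⟩ | ⟨⟨φ⟩⟩
  swap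
  · exfalso
    have h1 : Nat.card G = 2520 := by
      rw [Nat.card_congr φ.toEquiv, nat_card_alternatingGroup]; simp [Nat.factorial]
    have h2 : p ∣ 2 ^ 2 * 3 ^ 2 * 5 * 7 := ⟨Nat.card (Sylow p G), by linarith⟩
    simp only [hp.out.dvd_mul] at h2
    rcases h2 with ((h2 | h2) | h2) | h2
    · have := Nat.le_of_dvd two_pos (hp.out.dvd_of_dvd_pow h2); omega
    · have := Nat.le_of_dvd three_pos (hp.out.dvd_of_dvd_pow h2); omega
    · obtain rfl := (Nat.prime_dvd_prime_iff_eq hp.out (by norm_num)).1 h2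
      unfold Nat.ModEq at hS'
      omega
    · obtain rfl := (Nat.prime_dvd_prime_iff_eq hp.out (by norm_num)).1 h2
      unfold Nat.ModEq at hS'
      omega
  have hq := GW.two_mul_card_psl2 h1
  rw [← Nat.card_congr φ.toEquiv] at hq
  obtain ⟨r, _, k, hr, hk⟩ := FiniteField.card' F
  obtain ⟨ζ, hζ⟩ := exists_steinberg φ
  rcases D.deg ζ with h3 | h3 | h3 | h3 <;> rw [hζ] at h3
  · omega
  · have h5 : n + 1 = 2 * p := by
      rw [h3, Nat.odd_iff] at h1
      clear * - h1 hcs hpo hp3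
      omega
    obtain ⟨ρ, h4⟩ := key.2 h5
    have h9 := eq_nine (ρ := ρ) hr hk h2 (by zify at h3 h5; linear_combination h3 + h5 + h4)
    obtain ⟨ψ⟩ := nonempty_a6_psl F h9
    obtain rfl : p = 5 := by omega
    refine ⟨?_, rfl, ⟨φ.trans ψ.symm⟩⟩
    have := h.tr
    have : Nontrivial Ω := ⟨β, α, c.βα⟩
    refine (isCoatom_stabilizer_iff_preprimitive G α).1 ⟨h.stab_ne α, fun K hK =>
      OC.eq_top_of_lt hK fun m h6 h7 => ?_⟩
    rw [index_stabilizer_of_transitive, Nat.card_eq_fintype_card, h.card] at h6 h7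
    rw [show Nat.card G = 360 by rw [h9] at hq; omega]
    interval_cases m <;> first | omega | decide
  · exfalso
    have h4 : (p : ℤ) ∣ Fintype.card F + 2 := by
      rcases hcs with ⟨h4, -⟩ | ⟨h4, -⟩ | ⟨h4, -⟩
      exacts [⟨1, by omega⟩, ⟨3, by omega⟩, ⟨2, by omega⟩]
    have h5 : (p : ℤ) ∣ Fintype.card F * (Fintype.card F ^ 2 - 1) := by
      rw [hS] at hq
      zify [Nat.one_le_pow 2 (Fintype.card F) (by omega)] at hq
      exact ⟨4 * Nat.card (Sylow p G), by linear_combination -hq⟩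
    have h6 : (p : ℤ) ∣ 2 * 3 := by
      exact ((h4.mul_right ((Fintype.card F : ℤ) ^ 2 - 2 * Fintype.card F + 3)).sub h5).trans
        (dvd_of_eq (by ring))
    rcases hp.out.dvd_mul.1 (show p ∣ 2 * 3 by exact_mod_cast h6) with h7 | h7
    · have := Nat.le_of_dvd two_pos h7; omega
    · have := Nat.le_of_dvd three_pos h7; omega
  exfalso
  obtain rfl := (Nat.prime_dvd_prime_iff_eq hp.out hr).1 (hp.out.dvd_of_dvd_pow (hk ▸ h3))
  have h4 : Fintype.card F = p := by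
    obtain ⟨k, hk0⟩ := k
    rcases k with _ | _ | k
    · omega
    · simpa using hk
    · refine absurd (((Nat.coprime_primes hp.out Nat.prime_two).2 (by omega)).pow_left 2
        |>.dvd_of_dvd_mul_left ?_) (OC.not_sq_dvd_of_index h.hx h.hi)
      rw [hq, hk]
      exact (pow_dvd_pow p (Nat.le_add_left 2 k)).mul_right _
  rw [h4, hS] at hq
  have h5 : 4 * Nat.card (Sylow p G) + 1 = p ^ 2 := by
    have h5 := Nat.one_le_pow 2 p (by omega)
    have : 4 * Nat.card (Sylow p G) = p ^ 2 - 1 :=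
      Nat.eq_of_mul_eq_mul_left (by omega : 0 < p) (by linarith)
    omega
  obtain ⟨j, hj⟩ := (Nat.modEq_iff_dvd' Nat.card_pos).1 hS'.symm
  have h6 : 0 < Nat.card (Sylow p G) := Nat.card_pos
  have h7 : p ∣ 5 := (Nat.dvd_add_right (dvd_mul_right p (4 * j))).1
    ⟨p, by rw [← sq, ← h5, show Nat.card (Sylow p G) = p * j + 1 by omega]; ring⟩
  obtain rfl := (Nat.prime_dvd_prime_iff_eq hp.out (by norm_num)).1 h7
  have h8 : Nat.card G = 60 := by omega
  have h9 : Nat.card (stabilizer G β) = 2 ^ 2 := by have := h.card_eq β; omega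
  have h10 : Nat.card C1[z] = 4 := by
    rw [h8] at hF
    apply Nat.pow_left_injective two_ne_zero
    zify
    generalize (Nat.card C1[z] : ℤ) ^ 2 = y at hF
    rcases hcs with ⟨h4, rfl⟩ | ⟨h4, h4'⟩ | ⟨h4, rfl, -⟩
    · obtain rfl : n = 4 := by omega
      omega
    · obtain rfl : n = 14 := by omega
      obtain rfl : a = 2 := by omega
      omega
    · obtain rfl : n = 9 := by omega
      omega
  have h11 : stabilizer G β ≤ C1[z] := fun y hy => mem_centralizer_singleton_iff.2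
    (congrArg Subtype.val ((IsPGroup.commGroupOfCardEqPrimeSq h9).mul_comm ⟨y, hy⟩ ⟨z, c.zβ⟩))
  exact c.ne ((eq_of_le_of_card_ge h11 (by omega)).ge (c.cen c.wS))

theorem Hyp.main [IsSimpleGroup G] (h : Hyp Ω p x) :
    (IsPreprimitive G Ω ∧ p = 5 ∧ Nonempty (G ≃* alternatingGroup (Fin 6))) ∨
      ¬ IsPreprimitive G Ω ∧ ∃ m, p = 2 ^ m + 1 ∧ Big.IsoPSL2 G (2 ^ m) := by
  obtain ⟨n, a, f, D⟩ := h.exists_data
  obtain ⟨S⟩ : Nonempty (Sylow 2 G) := inferInstance
  obtain ⟨z, -, hz, hc⟩ := pg_exists_central_of_order_p S.isPGroup' ⊤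
    (fun e => S.ne_bot_of_dvd_card (h.card_sylow ▸ dvd_mul_left _ _) (by
      rw [eq_bot_iff]
      exact fun y hy => congrArg Subtype.val (mem_bot.1 (e.le (mem_top (⟨y, hy⟩ : (S : Subgroup G)))))))
  rw [← orderOf_coe] at hz
  have h1 : (S : Subgroup G) ≤ C1[(z : G)] := fun y hy => mem_centralizer_singleton_iff.2
    (congrArg Subtype.val (mem_center_iff.1 hc ⟨y, hy⟩))
  by_cases hA : ∀ u, orderOf u = 2 → u ∈ stabilizer G (fixedBy Ω (z : G)) →
      fixedBy Ω (z : G) ⊆ fixedBy Ω u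
  · exact Or.inr (h.caseA D (h.se D hz hA))
  push Not at hA
  obtain ⟨u, hu, h2, h3⟩ := hA
  obtain ⟨ω, h4, h5⟩ := Set.not_subset.1 h3
  obtain ⟨k, hk, h6⟩ := (IsSylowIn.of_sylow_le S (K := stabilizer G (fixedBy Ω (z : G)))
    fun y hy => by
      rw [mem_stabilizer_iff, smul_fixedBy, mem_centralizer_singleton_iff.1 (h1 hy),
        mul_inv_cancel_right]).exists_conj_le
    (GW.isPGroup_zpowers_two (mul_self_of_orderOf_two hu)) (zpowers_le.2 h2)
  obtain ⟨α, hα⟩ := h.exists_fix S.isPGroup'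
  have h7 : (k * u * k⁻¹) • k • ω ≠ k • ω := by
    rw [conj_smul]; exact fun e => h5 (smul_left_cancel k e)
  have h8 : (z : G) • k • ω = k • ω := (mem_stabilizer_set.1 hk ω).2 h4
  have h9 : k * u * k⁻¹ ∈ (S : Subgroup G) := h6 ⟨u, mem_zpowers u, rfl⟩
  obtain rfl : f = 3 := D.f_eq.resolve_left fun e => by
    have h10 := D.fix z hz
    rw [e, nf_eq, Set.ncard_eq_one] at h10
    obtain ⟨b, hb⟩ := h10
    have h11 : k • ω = α := (hb.le h8).trans (hb.le (hα z.2)).symm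
    exact h7 (h11 ▸ hα h9)
  exact Or.inl (h.caseB D ⟨D.fix, hz, z.2, h1, (sm_orderOf_conj k u).trans hu, h9, hα, h8, h7⟩)

end Cfsg.Lib.Nagai
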